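import Mathlib
import Cfsg.Agent.Block.OrdP
import Cfsg.Agent.Block.Height
import Cfsg.Agent.S4503
import Cfsg.Agent.S4504
import Cfsg.Agent.Classical.SLBasic
import Cfsg.Agent.SylN.A
import Cfsg.Agent.SylN.B

set_option autoImplicit false
set_option backward.isDefEq.respectTransparency false

namespace Cfsg.Agent.SylN

open Cfsg Cfsg.Agent.Char Cfsg.Agent.Block Subgroup
open scoped _root_.Classical

variable {G : Type*} [Group G] {p : ℕ} [hp : Fact p.Prime]

theorem blk [Fintype G] (P : Sylow p G) (hP : Nat.card (P : Subgroup G) = p) {r : ℕ}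
    (hr : r.Prime) : ∃ φ : IrrCharacter G, φ ≠ oneIrr G ∧ ¬ r ∣ charDegree φ.1 ∧
      ¬ p ∣ charDegree φ.1 ∧ ∀ x : (P : Subgroup G), x ≠ 1 →
        ∀ y ∈ centralizer ((P : Subgroup G) : Set G), ¬ p ∣ orderOf y → φ.1 (x * y) = φ.1 (x * 1) := by
  obtain ⟨M, hM⟩ := exists_isPModular hp.out
  obtain ⟨δ, ζ, a, X, hd⟩ := (ordP_sylow P hP).exists_defOne_principal hM
  have hq := hd.prinOne hM
  have h1p : ¬ p ∣ orderOf (1 : G) := by simpa using hp.out.one_lt.ne'
  have hsg : ∀ {s : ℤ} {q : ℕ}, q.Prime → (s = 1 ∨ s = -1) → ¬ (q : ℤ) ∣ s := by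
    intro s q hq hs h
    have : (q : ℤ) ∣ 1 := by rcases hs with rfl | rfl <;> simpa using h
    exact hq.one_lt.ne' (by exact_mod_cast Int.eq_one_of_dvd_one (by positivity) this)
  have hone : charDegree (oneIrr G).1 = 1 := charDegree_of_eq (by simp)
  have gX : ∀ χ ∈ X, χ ≠ oneIrr G → ¬ r ∣ charDegree χ.1 → ∃ φ : IrrCharacter G, φ ≠ oneIrr G ∧
      ¬ r ∣ charDegree φ.1 ∧ ¬ p ∣ charDegree φ.1 ∧ ∀ x : (P : Subgroup G), x ≠ 1 →
        ∀ y ∈ centralizer ((P : Subgroup G) : Set G), ¬ p ∣ orderOf y → φ.1 (x * y) = φ.1 (x * 1) := by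
    intro χ hχ h1 h2
    refine ⟨χ, h1, h2, fun h => hsg hp.out (hq.a_sign χ hχ) ?_, fun x hx y hy hy' => ?_⟩
    · exact (hq.degX χ hχ).dvd_iff.1 (Int.natCast_dvd_natCast.2 h)
    · have hx' : (x : G) ≠ 1 := fun e => hx (Subtype.ext e)
      rw [hq.valX χ hχ x x.2 hx' y hy hy', hq.valX χ hχ x x.2 hx' 1 (one_mem _) h1p]
  by_contra hcon
  have hX : ∀ χ ∈ X, χ ≠ oneIrr G → (r : ℤ) ∣ a χ * charDegree χ.1 := fun χ hχ h1 =>
    Dvd.dvd.mul_left (Int.natCast_dvd_natCast.2 (by
      by_contra h2; exact hcon (gX χ hχ h1 h2))) _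
  have hmem := oneIrr_mem_principalBlock (G := G) hM
  rw [hq.union] at hmem
  rcases hmem with hm | ⟨lam, hlam⟩
  · have hne : (Set.range ζ).Nonempty := by
      by_contra h
      have := hq.cardY
      rw [Set.not_nonempty_iff_eq_empty.1 h] at this
      simp at this
      exact hp.out.one_lt.ne this
    obtain ⟨_, lam, rfl⟩ := hne
    have hn1 : ζ lam ≠ oneIrr G := fun e => Set.disjoint_left.1 hq.disj hm ⟨lam, e⟩
    have hrd : r ∣ charDegree (ζ lam).1 := by
      by_contra h2
      refine hcon ⟨ζ lam, hn1, h2, fun h => ?_, fun x hx y hy hy' => ?_⟩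
      · have h3 := (hq.degY lam).dvd_iff.1 (Int.natCast_dvd_natCast.2 h)
        rcases (Int.prime_iff_natAbs_prime.2 (by simpa using hp.out)).dvd_or_dvd h3 with h4 | h4
        · exact hsg hp.out hq.sign h4
        · have h5 := (Int.natCast_dvd_natCast.1 h4).trans (isCyclic_normalizer_quot hp.out hP).2
          have := hp.out.one_lt
          have := Nat.le_of_dvd (by omega) h5
          omega
      · rw [hq.valY lam x hx y hy hy', hq.valY lam x hx 1 (one_mem _) h1p]
    have hrel := hd.rel_one lam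
    rw [← Finset.add_sum_erase _ _ (a := oneIrr G) (by simpa using hm), hone] at hrel
    have h6 : (r : ℤ) ∣ ∑ χ ∈ (Finset.univ.filter fun χ => χ ∈ X).erase (oneIrr G),
        a χ * (charDegree χ.1 : ℤ) := Finset.dvd_sum fun χ hχ =>
      hX χ (by simpa using (Finset.mem_erase.1 hχ).2) (Finset.mem_erase.1 hχ).1
    have h7 : (r : ℤ) ∣ δ * charDegree (ζ lam).1 :=
      Dvd.dvd.mul_left (Int.natCast_dvd_natCast.2 hrd) _
    rw [hrel] at h7
    exact hsg hr (hq.a_sign _ hm) (by simpa using (dvd_add_left h6).1 h7)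
  · have hrel := hd.rel_one lam
    rw [hlam, hone] at hrel
    refine hsg hr hq.sign ?_
    have : δ = ∑ χ with χ ∈ X, a χ * (charDegree χ.1 : ℤ) := by simpa using hrel
    rw [this]
    refine Finset.dvd_sum fun χ hχ => hX χ (by simpa using hχ) fun e => ?_
    exact Set.disjoint_left.1 hq.disj (by simpa using hχ) ⟨lam, hlam.trans e.symm⟩

/-- a simple group whose Sylow subgroup for the prime two is cyclic and nontrivial is a 2-group -/
theorem two_case [Finite G] [IsSimpleGroup G] (T : Sylow 2 G) (hc : IsCyclic (T : Subgroup G))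
    (h2 : 2 ∣ Nat.card G) : (T : Subgroup G) = ⊤ := by
  have hm : (Nat.card G).minFac = 2 := (Nat.minFac_eq_two_iff _).2 h2
  have h := hc.isComplement' hm
  rcases (MonoidHom.normal_ker (MonoidHom.transferSylow T
    (hc.normalizer_le_centralizer hm))).eq_bot_or_eq_top with e | e
  · rw [e] at h; exact isComplement'_bot_left.1 h
  · rw [e] at h
    have hb := isComplement'_top_left.1 h
    have := T.not_dvd_index
    rw [hb, index_bot] at this
    exact absurd h2 this

theorem simple_case [Finite G] [IsSimpleGroup G] (hM : ¬ (3 < p ∧ ∃ k : ℕ, p + 1 = 2 ^ k))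
    (hn : Nat.card (Sylow p G) < p ^ 2) (h1 : Nat.card (Sylow p G) ≠ 1) {r k : ℕ} (hr : r.Prime)
    (hk : Nat.card (Sylow p G) = r ^ k) : False := by
  cases nonempty_fintype G
  obtain ⟨P⟩ : Nonempty (Sylow p G) := inferInstance
  have hP := card_eq hn h1 P
  have hp1 := hp.out.one_lt
  have hidx : Nat.card (Sylow p G) = (normalizer ((P : Subgroup G) : Set G)).index :=
    P.card_eq_index_normalizer
  have hnc : ∀ H : Subgroup G, IsCyclic H → H ≠ ⊤ := by
    rintro H hH rfl
    have hc : IsCyclic G := isCyclic_of_surjective _ topEquiv.surjective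
    letI := hc.commGroup
    refine h1 (hidx.trans (index_eq_one.2 (normalizer_eq_top _)))
  have hcP : IsCyclic (P : Subgroup G) := isCyclic_of_prime_card hP
  have hpG : p ∣ Nat.card G := hP ▸ card_subgroup_dvd_card _
  have hp2 : p ≠ 2 := by
    rintro rfl
    exact hnc _ hcP (two_case P hcP hpG)
  obtain ⟨φ, hφ1, hrφ, hpφ, hval⟩ := blk P hP hr
  set d := charDegree φ.1 with hdd
  have hd : φ.1 1 = d := (charDegree_cast (irr_isChar φ)).symm
  have hker := charKer_eq_bot_of_simple φ.2 fun e => hφ1 (Subtype.ext e)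
  have hf : ∀ g, φ.1 g = φ.1 1 → g = 1 := fun g hg => by
    have := (mem_charKer_iff (irr_isChar φ)).2 hg
    rwa [hker, mem_bot] at this
  have hPb : (P : Subgroup G) ≠ ⊥ := fun e => by
    rw [e, card_bot] at hP; exact hp1.ne hP
  have hcop : d.Coprime (r ^ k * p) := Nat.Coprime.mul_right
    (Nat.Coprime.pow_right _ ((hr.coprime_iff_not_dvd).2 hrφ).symm)
    ((hp.out.coprime_iff_not_dvd).2 hpφ).symm
  have hz := fix_zero P hPb φ.2 hf hd (by rw [hk, hP]; exact hcop)
  have hreg : ∀ y ∈ centralizer ((P : Subgroup G) : Set G), ¬ p ∣ orderOf y → y = 1 := by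
    intro y hy hy'
    have h2 := (hz y).trans (hz 1).symm
    rw [← Finset.add_sum_erase _ _ (Finset.mem_univ (1 : (P : Subgroup G))),
      ← Finset.add_sum_erase _ _ (Finset.mem_univ (1 : (P : Subgroup G))),
      Finset.sum_congr rfl fun x hx => hval x (Finset.mem_erase.1 hx).1 y hy hy'] at h2
    exact hf y (by simpa using add_right_cancel h2)
  have hPC : (P : Subgroup G) ≤ centralizer ((P : Subgroup G) : Set G) := (ordP_sylow P hP).ab.comm
  have hCp : IsPGroup p (centralizer ((P : Subgroup G) : Set G)) := by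
    refine (IsPGroup.iff_card).2 ⟨_, Nat.eq_prime_pow_of_unique_prime_dvd Nat.card_pos.ne' ?_⟩
    intro q hq hqd
    by_contra hne
    have := Fact.mk hq
    obtain ⟨y, hy⟩ := exists_prime_orderOf_dvd_card' q hqd
    have h3 := hreg y y.2 (by
      rw [orderOf_coe, hy]; exact fun h => hne ((Nat.prime_dvd_prime_iff_eq hp.out hq).1 h).symm)
    rw [show y = 1 from Subtype.ext h3, orderOf_one] at hy
    exact hq.one_lt.ne hy
  have hC : centralizer ((P : Subgroup G) : Set G) = P := P.is_maximal' hCp hPC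
  obtain ⟨hcyc, hedv⟩ := isCyclic_normalizer_quot hp.out hP
  set N := normalizer ((P : Subgroup G) : Set G) with hN
  set e := (centralizer ((P : Subgroup G) : Set G)).relIndex N with he
  have hNc : Nat.card N = p * e := by
    rw [he, hC, relIndex, ← card_mul_index ((P : Subgroup G).subgroupOf N),
      Nat.card_congr (subgroupOfEquivOfLe le_normalizer).toEquiv, hP]
  have hG : Nat.card G = r ^ k * p * e := by
    rw [← card_mul_index N, hNc, ← hidx, hk]; ring
  have hde : d ∣ e := hcop.dvd_of_dvd_mul_left (hG ▸ isIrr_degree_dvd_card φ.2 hd)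
  have hmod : r ^ k % p = 1 := by
    have := card_sylow_modEq_one p G
    rw [hk] at this
    rw [this, Nat.mod_eq_of_lt hp1]
  have hge : p + 1 ≤ r ^ k := by
    by_contra hlt
    rcases (by omega : r ^ k < p ∨ r ^ k = p) with h | h
    · rw [Nat.mod_eq_of_lt h] at hmod; exact h1 (hk.trans hmod)
    · rw [h, Nat.mod_self] at hmod; omega
  have hsq : ¬ p ^ 2 ∣ Nat.card G := by
    rw [← card_mul_index (P : Subgroup G), hP, pow_two]
    exact fun h => P.not_dvd_index (Nat.dvd_of_mul_dvd_mul_left hp.out.pos h)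
  have hnn : ∀ H : Subgroup G, H.Normal → Nat.card H ≠ p := by
    intro H hH hc
    rcases hH.eq_bot_or_eq_top with rfl | rfl
    · rw [card_bot] at hc; exact hp1.ne hc
    · exact hnc ⊤ (isCyclic_of_prime_card hc) rfl
  have h3 := S4503.result p hp.out hpG hsq hnn φ.1 (irr_isChar φ) hf
  rw [← hdd] at h3
  obtain ⟨m, hm⟩ := hp.out.odd_of_ne_two hp2
  obtain ⟨u, hu⟩ := hde
  obtain ⟨w, hw⟩ := hedv
  have hd1 : d ≠ 1 := by
    intro h
    have h4 := (isIrr_degree_one_iff φ.2).1 (by rw [hd, h, Nat.cast_one])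
    rw [hker, le_bot_iff, commutator_eq_bot_iff_center_eq_top] at h4
    have : N = ⊤ := eq_top_iff.2 (h4 ▸ center_le_normalizer _)
    exact h1 (hidx.trans (index_eq_one.2 this))
  have hm0 : 2 * m = d * (u * w) := by rw [← mul_assoc, ← hu, ← hw]; omega
  have huw : u * w = 1 ∨ u * w = 2 := by
    have : u * w ≠ 0 := fun h => by rw [h] at hm0; omega
    have : ¬ 3 ≤ u * w := fun h => by nlinarith
    omega
  rcases huw with h | h
  · -- degree `p - 1`
    rw [h, mul_one] at hm0
    have hr2 : ¬ 2 ∣ r ^ k := fun h2 => by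
      have := (Nat.prime_dvd_prime_iff_eq Nat.prime_two hr).1 (Nat.prime_two.dvd_of_dvd_pow h2)
      exact hrφ (this ▸ ⟨m, hm0.symm⟩)
    obtain ⟨T₀⟩ : Nonempty (Sylow 2 N) := inferInstance
    let f := (QuotientGroup.mk' ((centralizer ((P : Subgroup G) : Set G)).subgroupOf N)).comp
      (T₀ : Subgroup N).subtype
    have hinj : Function.Injective f := by
      refine (injective_iff_map_eq_one f).2 fun x hx => ?_
      have hx1 : ((x : N) : G) ∈ centralizer ((P : Subgroup G) : Set G) :=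
        mem_subgroupOf.1 ((QuotientGroup.eq_one_iff _).1 hx)
      obtain ⟨j, hj⟩ := IsPGroup.iff_orderOf.1 T₀.isPGroup' x
      refine Subtype.ext (Subtype.ext (hreg _ hx1 ?_))
      rw [orderOf_coe, orderOf_coe, hj]
      exact fun h2 => hp2 ((Nat.prime_dvd_prime_iff_eq hp.out Nat.prime_two).1
        (hp.out.dvd_of_dvd_pow h2))
    have hcT : IsCyclic (T₀ : Subgroup N) := isCyclic_of_injective f hinj
    have hT : IsPGroup 2 ((T₀ : Subgroup N).map N.subtype) := T₀.isPGroup'.map _
    have hTi : ¬ 2 ∣ ((T₀ : Subgroup N).map N.subtype).index := by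
      rw [index_map_subtype, ← hidx, hk]
      exact fun h2 => (Nat.prime_two.dvd_mul.1 h2).elim T₀.not_dvd_index hr2
    have hcT' : IsCyclic ((T₀ : Subgroup N).map N.subtype) :=
      isCyclic_of_surjective _ (N.subtype.subgroupMap_surjective T₀)
    refine hnc _ hcT' (two_case (hT.toSylow hTi) hcT' ?_)
    rw [hG, hu, ← hm0]
    exact ⟨r ^ k * p * m * u, by ring⟩
  · rw [h] at hm0
    have hdeg : 2 * d + 1 = p := by omega
    obtain ⟨ψ⟩ := S4504.result p hp.out hpG hsq hnn φ.1 (irr_isChar φ) hf hdeg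
    have hZ : center G = ⊥ := (center G).normal_of_characteristic.eq_bot_or_eq_top.resolve_right
      fun h4 => h1 (hidx.trans (index_eq_one.2 (eq_top_iff.2 (h4 ▸ center_le_normalizer _))))
    have h5 := Nat.card_congr ψ.toEquiv
    rw [← index_eq_card, hZ, index_bot] at h5
    have h6 := _root_.Cfsg.Agent.Classical.SLBasic.card_PSL_two (F := ZMod p)
    rw [Nat.card_zmod, ← h5, hG, Nat.gcd_eq_left (by omega : 2 ∣ p - 1), hu] at h6
    have h7 : p ^ 2 - 1 = 2 * d * (p + 1) := by
      rw [← hdeg]; apply Nat.sub_eq_of_eq_add; ring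
    rw [h7] at h6
    have h8 : r ^ k * u = p + 1 := by
      refine Nat.eq_of_mul_eq_mul_left (Nat.mul_pos (show 0 < 2 * d by omega) hp.out.pos) ?_
      calc _ = 2 * (r ^ k * p * (d * u)) := by ring
        _ = _ := by rw [h6]; ring
    have hu1 : u = 1 := by
      have : u ≠ 0 := fun h => by rw [h] at h8; omega
      have : ¬ 2 ≤ u := fun h => by nlinarith
      omega
    rw [hu1, mul_one] at h8
    have hr2 : 2 = r := (Nat.prime_dvd_prime_iff_eq Nat.prime_two hr).1
      (Nat.prime_two.dvd_of_dvd_pow (n := k) (h8 ▸ ⟨m + 1, by omega⟩))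
    exact hM ⟨by omega, k, hr2 ▸ h8.symm⟩

end Cfsg.Agent.SylN
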